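import Groth.Prelude.Def_Pic
import Groth.Agent.SmoothLiftLib.Iff
import Groth.Agent.AffLim.Presentation

/-!
# Weil restrictions of finitely presented schemes are locally of finite presentation
-/

set_option autoImplicit false
universe u
open CategoryTheory CategoryTheory.Limits AlgebraicGeometry Groth.Agent

namespace WeilPtsLib

set_option backward.isDefEq.respectTransparency false
set_option linter.style.haveILetI false
open CategoryTheory.Limits Opposite

section Weil
variable {S : Scheme.{u}} (X : Over S)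

theorem XTmap_fst {T T' : Over S} (h : T' ⟶ T) :
    PicF.XTmap X.hom h ≫ pullback.fst X.hom T.hom = pullback.fst X.hom T'.hom := by
  simp [PicF.XTmap]

theorem XTmap_snd {T T' : Over S} (h : T' ⟶ T) :
    PicF.XTmap X.hom h ≫ pullback.snd X.hom T.hom = pullback.snd X.hom T'.hom ≫ h.left := by
  simp [PicF.XTmap]

theorem isPullback_XTmap {T T' : Over S} (h : T' ⟶ T) :
    IsPullback (PicF.XTmap X.hom h) (pullback.snd X.hom T'.hom) (pullback.snd X.hom T.hom) h.left := by
  refine IsPullback.of_right ?_ (XTmap_snd X h) (IsPullback.of_hasPullback X.hom T.hom)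
  rw [XTmap_fst, Over.w h]
  exact IsPullback.of_hasPullback X.hom T'.hom

variable [IsFinite X.hom] (Z : Scheme.{u}) (z : Z ⟶ X.left) [LocallyOfFinitePresentation z] (P : Over S)
  (e : ∀ T : Over S, (T ⟶ P) ≃ {σ : PicF.XT X.hom T ⟶ Z // σ ≫ z = pullback.fst X.hom T.hom})
  (he : ∀ (T T' : Over S) (h : T' ⟶ T) (a : T ⟶ P),
    ((e T') (h ≫ a)).1 = PicF.XTmap X.hom h ≫ ((e T) a).1)

theorem isAffine_XT (T : Over S) [IsAffine T.left] : IsAffine (PicF.XT X.hom T) :=
  isAffine_of_isAffineHom (pullback.snd X.hom T.hom)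

include e he

theorem locallyOfFinitePresentation_weil : LocallyOfFinitePresentation P.hom := by
  refine AffLim.locallyOfFinitePresentation_of_factor P.hom fun U hU J _ _ _ F α c hc g hg => ?_
  let TT : Jᵒᵖ ⥤ Over S :=
    { obj := fun j => Over.mk (Spec.map (α.app j.unop) ≫ hU.fromSpec)
      map := fun {i j} a => Over.homMk (Spec.map (F.map a.unop)) (by
        show Spec.map (F.map a.unop) ≫ Spec.map (α.app j.unop) ≫ hU.fromSpec = Spec.map (α.app i.unop) ≫ hU.fromSpec
        rw [← Spec.map_comp_assoc, ← α.naturality a.unop]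
        simp)
      map_id := fun i => Over.OverMorphism.ext ((F.op ⋙ Scheme.Spec).map_id i)
      map_comp := fun a b => Over.OverMorphism.ext ((F.op ⋙ Scheme.Spec).map_comp a b) }
  let T : Over S := Over.mk (g ≫ P.hom)
  let ι : ∀ j : Jᵒᵖ, T ⟶ TT.obj j := fun j => Over.homMk (Spec.map (c.ι.app j.unop)) (by
    show Spec.map (c.ι.app j.unop) ≫ Spec.map (α.app j.unop) ≫ hU.fromSpec = g ≫ P.hom
    rw [hg j.unop, Spec.map_comp, Category.assoc])
  have hι : ∀ {i j : Jᵒᵖ} (a : i ⟶ j), ι i ≫ TT.map a = ι j := fun {i j} a => Over.OverMorphism.ext (by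
    show Spec.map (c.ι.app i.unop) ≫ Spec.map (F.map a.unop) = Spec.map (c.ι.app j.unop)
    rw [← Spec.map_comp, c.w])
  have hXc : ∀ {T₁ T₂ T₃ : Over S} (u : T₁ ⟶ T₂) (v : T₂ ⟶ T₃),
      PicF.XTmap X.hom (u ≫ v) = PicF.XTmap X.hom u ≫ PicF.XTmap X.hom v := fun u v => by
    apply pullback.hom_ext
    · rw [Category.assoc, XTmap_fst, XTmap_fst, XTmap_fst]
    · rw [Category.assoc, XTmap_snd, XTmap_snd, ← Category.assoc (PicF.XTmap X.hom u), XTmap_snd, Category.assoc]
      rfl
  let D : Jᵒᵖ ⥤ Scheme.{u} :=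
    { obj := fun j => PicF.XT X.hom (TT.obj j)
      map := fun a => PicF.XTmap X.hom (TT.map a)
      map_id := fun i => by
        rw [TT.map_id]
        apply pullback.hom_ext
        · rw [XTmap_fst]; exact (Category.id_comp _).symm
        · rw [XTmap_snd]; exact (Category.comp_id _).trans (Category.id_comp _).symm
      map_comp := fun a b => by rw [TT.map_comp, hXc] }
  let cone : Cone D :=
    { pt := PicF.XT X.hom T
      π :=
        { app := fun j => PicF.XTmap X.hom (ι j)
          naturality := fun i j a => by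
            refine (Category.id_comp _).trans ?_
            show PicF.XTmap X.hom (ι j) = PicF.XTmap X.hom (ι i) ≫ PicF.XTmap X.hom (TT.map a)
            rw [← hXc, hι] } }
  haveI hne : Nonempty Jᵒᵖ := inferInstance
  let j₀ : Jᵒᵖ := hne.some
  haveI : IsCofiltered Jᵒᵖ := inferInstance
  let hS : IsLimit (Scheme.Spec.mapCone c.op) := isLimitOfPreserves Scheme.Spec hc.op
  have hfst : ∀ (s : Cone D) (j : Jᵒᵖ),
      s.π.app j ≫ pullback.fst X.hom (TT.obj j).hom = s.π.app j₀ ≫ pullback.fst X.hom (TT.obj j₀).hom := fun s j => by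
    obtain ⟨k, a, b, -⟩ := IsCofilteredOrEmpty.cone_objs j j₀
    rw [← s.w a, ← s.w b]
    show (s.π.app k ≫ PicF.XTmap X.hom (TT.map a)) ≫ _ = (s.π.app k ≫ PicF.XTmap X.hom (TT.map b)) ≫ _
    rw [Category.assoc, Category.assoc, XTmap_fst, XTmap_fst]
  let cs : ∀ s : Cone D, Cone (F.op ⋙ Scheme.Spec) := fun s =>
    { pt := s.pt
      π :=
        { app := fun j => s.π.app j ≫ pullback.snd X.hom (TT.obj j).hom
          naturality := fun i j a => by
            refine (Category.id_comp _).trans ?_
            rw [← s.w a]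
            show (s.π.app i ≫ PicF.XTmap X.hom (TT.map a)) ≫ _ = _
            rw [Category.assoc, XTmap_snd, Category.assoc]
            rfl } }
  have hlift : ∀ s : Cone D, (s.π.app j₀ ≫ pullback.fst X.hom (TT.obj j₀).hom) ≫ X.hom = hS.lift (cs s) ≫ T.hom := by
    intro s
    rw [Category.assoc, pullback.condition, ← Over.w (ι j₀), ← Category.assoc]
    show _ = hS.lift (cs s) ≫ Spec.map (c.ι.app j₀.unop) ≫ (TT.obj j₀).hom
    rw [show hS.lift (cs s) ≫ Spec.map (c.ι.app j₀.unop) ≫ (TT.obj j₀).hom =
      ((cs s).π.app j₀) ≫ (TT.obj j₀).hom from hS.fac_assoc (cs s) j₀ _]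
  let hcone : IsLimit cone :=
    { lift := fun s => pullback.lift (s.π.app j₀ ≫ pullback.fst X.hom (TT.obj j₀).hom) (hS.lift (cs s)) (hlift s)
      fac := fun s j => by
        show pullback.lift _ _ _ ≫ PicF.XTmap X.hom (ι j) = _
        apply pullback.hom_ext
        · rw [Category.assoc, XTmap_fst, pullback.lift_fst, hfst s j]
        · rw [Category.assoc, XTmap_snd, pullback.lift_snd_assoc]
          exact hS.fac (cs s) j
      uniq := fun s m hm => by
        apply pullback.hom_ext
        · rw [pullback.lift_fst, ← hm j₀]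
          show _ = (m ≫ PicF.XTmap X.hom (ι j₀)) ≫ _
          rw [Category.assoc, XTmap_fst]
        · rw [pullback.lift_snd]
          refine hS.uniq (cs s) (m ≫ pullback.snd X.hom T.hom) fun j => ?_
          show (m ≫ pullback.snd X.hom T.hom) ≫ Spec.map (c.ι.app j.unop) = s.π.app j ≫ pullback.snd X.hom (TT.obj j).hom
          rw [← hm j, Category.assoc, Category.assoc]
          exact congrArg (m ≫ ·) (XTmap_snd X (ι j)).symm }
  haveI haff : ∀ j, IsAffine (D.obj j) := fun j =>
    haveI : IsAffine (TT.obj j).left := inferInstanceAs (IsAffine (Spec _))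
    isAffine_XT X (TT.obj j)
  let a : T ⟶ P := Over.homMk g rfl
  let t : D ⟶ (Functor.const Jᵒᵖ).obj X.left :=
    { app := fun j => pullback.fst X.hom (TT.obj j).hom
      naturality := fun i j b => (XTmap_fst X (TT.map b)).trans (Category.comp_id _).symm }
  obtain ⟨j, g', hg'₁, hg'₂⟩ := Scheme.exists_π_app_comp_eq_of_locallyOfFinitePresentation D t z cone hcone (e T a).1 (by
    ext j
    show PicF.XTmap X.hom (ι j) ≫ pullback.fst X.hom (TT.obj j).hom = (e T a).1 ≫ z
    rw [XTmap_fst, (e T a).2])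
  let u := (e (TT.obj j)).symm ⟨g', hg'₂⟩
  have hu : ι j ≫ u = a := by
    apply (e T).injective
    apply Subtype.ext
    rw [he, (e (TT.obj j)).apply_symm_apply]
    exact hg'₁
  exact ⟨j.unop, u.left, Over.w u, congrArg (·.left) hu⟩
end Weil

/-- The same in terms of the base change functor. -/
theorem locallyOfFinitePresentation_of_bc {B B' : Type u} [CommRing B] [CommRing B'] [Algebra B B'] [Module.Finite B B']
    (X' : Over (Spec (CommRingCat.of B'))) [LocallyOfFinitePresentation X'.hom]
    (R : Over (Spec (CommRingCat.of B)))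
    (e : ∀ Y : Over (Spec (CommRingCat.of B)), (Y ⟶ R) ≃
      ((Over.pullback (Spec.map (CommRingCat.ofHom (algebraMap B B')))).obj Y ⟶ X'))
    (he : ∀ (Y Z : Over (Spec (CommRingCat.of B))) (h : Y ⟶ Z) (g : Z ⟶ R),
      e Y (h ≫ g) = (Over.pullback (Spec.map (CommRingCat.ofHom (algebraMap B B')))).map h ≫ e Z g) :
    LocallyOfFinitePresentation R.hom := by
  let u := Spec.map (CommRingCat.ofHom (algebraMap B B'))
  haveI : IsFinite u := (IsFinite.SpecMap_iff _).2 (RingHom.finite_algebraMap.2 inferInstance)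
  let X : Over (Spec (CommRingCat.of B)) := Over.mk u
  let σe : ∀ T : Over (Spec (CommRingCat.of B)),
      ((Over.pullback u).obj T ⟶ X') ≃ {σ : PicF.XT X.hom T ⟶ X'.left // σ ≫ X'.hom = pullback.fst X.hom T.hom} := fun T =>
    { toFun := fun m => ⟨(pullbackSymmetry _ _).hom ≫ m.left, by
        rw [Category.assoc, Over.w m]
        exact pullbackSymmetry_hom_comp_snd _ _⟩
      invFun := fun σ => Over.homMk ((pullbackSymmetry _ _).inv ≫ σ.1) (by
        rw [Category.assoc, σ.2]
        exact pullbackSymmetry_inv_comp_fst _ _)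
      left_inv := fun m => by ext1; exact Iso.inv_hom_id_assoc _ _
      right_inv := fun σ => Subtype.ext (Iso.hom_inv_id_assoc _ _) }
  haveI : IsFinite X.hom := ‹IsFinite u›
  refine locallyOfFinitePresentation_weil X X'.left X'.hom R (fun T => (e T).trans (σe T)) fun T T' h a => ?_
  show (pullbackSymmetry _ _).hom ≫ (e T' (h ≫ a)).left = _ ≫ (pullbackSymmetry _ _).hom ≫ (e T a).left
  rw [he, Over.comp_left, ← Category.assoc, ← Category.assoc]
  congr 1
  refine pullback.hom_ext ?_ ?_
  · simp [PicF.XTmap]; exact (pullback.lift_snd _ _ _).symm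
  · simp [PicF.XTmap]; exact ((pullback.lift_fst _ _ _).trans (Category.comp_id _)).symm

end WeilPtsLib
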