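import Groth.Agent.WeilPtsLib.Lift
import Groth.Agent.WeilPtsLib.LFP
import Groth.Agent.ASp.EtLocal

/-!
# The counit of a Weil restriction and the restriction of smooth surjective maps
-/

set_option autoImplicit false
set_option backward.isDefEq.respectTransparency false
universe u

open CategoryTheory CategoryTheory.Limits AlgebraicGeometry TensorProduct Groth.Agent

noncomputable section

namespace WeilPtsLib

variable {B B' : Type u} [CommRing B] [CommRing B'] [Algebra B B']

/-- An affine scheme over `Spec B'` is the spectrum of an algebra. -/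
theorem exists_algebra (X' : Over (Spec (CommRingCat.of B'))) [IsAffine X'.left] :
    ∃ (AX : Type u) (_ : CommRing AX) (_ : Algebra B' AX), Nonempty (specOver B' AX ≅ X') := by
  let φ := Spec.preimage (X'.left.isoSpec.inv ≫ X'.hom)
  letI := φ.hom.toAlgebra
  refine ⟨Γ(X'.left, ⊤), inferInstance, inferInstance, ⟨Over.isoMk X'.left.isoSpec.symm ?_⟩⟩
  show X'.left.isoSpec.inv ≫ X'.hom = Spec.map φ
  rw [Spec.map_preimage]

/-- Transport of a representation along an isomorphism of the restricted scheme. -/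
def transport {X' X'' : Over (Spec (CommRingCat.of B'))} {R : Over (Spec (CommRingCat.of B))} (i : X'' ≅ X')
    (e : ∀ Y : Over (Spec (CommRingCat.of B)), (Y ⟶ R) ≃ ((bc B B').obj Y ⟶ X'))
    (Y : Over (Spec (CommRingCat.of B))) : (Y ⟶ R) ≃ ((bc B B').obj Y ⟶ X'') where
  toFun p := e Y p ≫ i.inv
  invFun m := (e Y).symm (m ≫ i.hom)
  left_inv p := by simp
  right_inv m := by simp

theorem transport_nat {X' X'' : Over (Spec (CommRingCat.of B'))} {R : Over (Spec (CommRingCat.of B))} (i : X'' ≅ X')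
    (e : ∀ Y : Over (Spec (CommRingCat.of B)), (Y ⟶ R) ≃ ((bc B B').obj Y ⟶ X'))
    (he : ∀ (Y Z : Over (Spec (CommRingCat.of B))) (h : Y ⟶ Z) (g : Z ⟶ R), e Y (h ≫ g) = (bc B B').map h ≫ e Z g)
    (Y Z : Over (Spec (CommRingCat.of B))) (h : Y ⟶ Z) (g : Z ⟶ R) :
    transport i e Y (h ≫ g) = (bc B B').map h ≫ transport i e Z g := by
  show e Y (h ≫ g) ≫ i.inv = _
  rw [he, Category.assoc]
  rfl

theorem diagHom_fst (A : Type u) [CommRing A] [Algebra B A] [Algebra B' A] [IsScalarTower B B' A] :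
    (diagHom B (B' := B') A).left ≫ pullback.fst (specOver B A).hom (Spec.map (CommRingCat.ofHom (algebraMap B B'))) =
      𝟙 _ := by
  show (Spec.map _ ≫ (bcIso B B' A).inv) ≫ pullback.fst _ _ = _
  rw [Category.assoc, bcIso_inv_fst, ← Spec.map_comp]
  refine Eq.trans (congrArg Spec.map ?_) (Spec.map_id (CommRingCat.of A))
  exact CommRingCat.hom_ext (RingHom.ext fun a => by
    show mulHom B A ((1 : B') ⊗ₜ[B] a) = a
    rw [mulHom_tmul, map_one, one_mul])

theorem eq_diag (A : Type u) [CommRing A] [Algebra B A] [Algebra B' A] [IsScalarTower B B' A]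
    (R : Over (Spec (CommRingCat.of B))) (m : specOver B' A ⟶ (bc B B').obj R) (p : specOver B A ⟶ R)
    (h : p.left = m.left ≫ pullback.fst R.hom (Spec.map (CommRingCat.ofHom (algebraMap B B')))) :
    m = diagHom B A ≫ (bc B B').map p := by
  refine Over.OverMorphism.ext (pullback.hom_ext ?_ ?_)
  · rw [← h, Over.comp_left, Category.assoc]
    refine Eq.trans ?_ (congrArg ((diagHom B A).left ≫ ·) (pullback.lift_fst _ _ _)).symm
    exact (Category.id_comp p.left).symm.trans ((congrArg (· ≫ p.left) (diagHom_fst (B := B) (B' := B') A).symm).trans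
      (Category.assoc _ _ _))
  · exact (Over.w m).trans (Over.w (diagHom B A ≫ (bc B B').map p)).symm

/-- A geometric point at a prime. -/
theorem exists_geomPoint {A : Type u} [CommRing A] (x : PrimeSpectrum A) :
    ∃ (Ω : Type u) (_ : Field Ω) (_ : IsAlgClosed Ω) (ι : A →+* Ω), RingHom.ker ι = x.asIdeal := by
  haveI : x.asIdeal.IsPrime := x.isPrime
  refine ⟨AlgebraicClosure x.asIdeal.ResidueField, inferInstance, inferInstance,
    (algebraMap x.asIdeal.ResidueField _).comp (algebraMap A x.asIdeal.ResidueField), ?_⟩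
  rw [RingHom.ker_comp_of_injective _ (RingHom.injective _), Ideal.ker_algebraMap_residueField]

section Spec

variable (AX : Type u) [CommRing AX] [Algebra B' AX] {R : Over (Spec (CommRingCat.of B))}
  (e : ∀ Y : Over (Spec (CommRingCat.of B)), (Y ⟶ R) ≃ ((bc B B').obj Y ⟶ specOver B' AX))
  (he : ∀ (Y Z : Over (Spec (CommRingCat.of B))) (h : Y ⟶ Z) (g : Z ⟶ R), e Y (h ≫ g) = (bc B B').map h ≫ e Z g)

include he in
theorem diag_counit (A : Type u) [CommRing A] [Algebra B A] [Algebra B' A] [IsScalarTower B B' A]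
    (p : specOver B A ⟶ R) :
    diagHom B A ≫ (bc B B').map p ≫ e R (𝟙 R) = specHom B' ((mulHom B A).comp (pt e A p)) := by
  rw [← he, Category.comp_id, diagHom_comp]
  rfl

include he in
theorem counit_formallySmooth [Algebra.FormallySmooth B' AX] :
    MoreMor.IsFormallySmoothHom (e R (𝟙 R)).left := by
  intro A _ I hI a b w
  letI : Algebra B' A := ((Spec.preimage b).hom.comp (algebraMap B' AX)).toAlgebra
  letI : Algebra B A := ((algebraMap B' A).comp (algebraMap B B')).toAlgebra
  haveI : IsScalarTower B B' A := IsScalarTower.of_algebraMap_eq fun _ => rfl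
  let bA : AX →ₐ[B'] A := { toRingHom := (Spec.preimage b).hom, commutes' := fun _ => rfl }
  have hb : b = (specHom B' bA).left := (Spec.map_preimage b).symm
  let m : specOver B' (A ⧸ I) ⟶ (bc B B').obj R := Over.homMk a (by
    rw [← Over.w (e R (𝟙 R)), ← Category.assoc, ← w, hb, Category.assoc]
    refine (congrArg (Spec.map _ ≫ ·) (Over.w (specHom B' bA))).trans ?_
    show Spec.map _ ≫ Spec.map _ = Spec.map _
    rw [← Spec.map_comp]
    rfl)
  let p₀ : specOver B (A ⧸ I) ⟶ R := Over.homMk (a ≫ pullback.fst _ _) (by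
    show (a ≫ pullback.fst _ _) ≫ R.hom = _
    rw [Category.assoc, pullback.condition, ← Category.assoc]
    refine (congrArg (· ≫ Spec.map _) (Over.w m)).trans ?_
    show Spec.map _ ≫ Spec.map _ = Spec.map _
    rw [← Spec.map_comp]
    rfl)
  have hm := eq_diag (B := B) (B' := B') (A ⧸ I) R m p₀ rfl
  have hq : m ≫ e R (𝟙 R) = specHom B' ((mulHom B (A ⧸ I)).comp (pt e _ p₀)) := by
    rw [hm, Category.assoc, diag_counit AX e he]
  have hc : (mulHom B (A ⧸ I)).comp (pt e _ p₀) = (Ideal.Quotient.mkₐ B' I).comp bA := by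
    have h : Spec.map (CommRingCat.ofHom bA.toRingHom ≫ CommRingCat.ofHom (Ideal.Quotient.mk I)) =
        Spec.map (CommRingCat.ofHom ((mulHom B (A ⧸ I)).comp (pt e _ p₀)).toRingHom) := by
      rw [Spec.map_comp]
      exact ((congrArg (Spec.map _ ≫ ·) hb.symm).trans w).trans (congrArg CommaMorphism.left hq)
    exact AlgHom.coe_ringHom_injective (congrArg CommRingCat.Hom.hom (Spec.map_injective h)).symm
  obtain ⟨ψ, hψ₁, hψ₂⟩ := exists_lift_counit AX A I hI bA (pt e _ p₀) hc
  let p := (pt e A).symm ψ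
  have hp : specHom B (Ideal.Quotient.mkₐ B I) ≫ p = p₀ := (pt e _).injective (by
    rw [pt_comp e he, Equiv.apply_symm_apply]
    exact hψ₁)
  let l := diagHom B A ≫ (bc B B').map p
  refine ⟨l.left, pullback.hom_ext ?_ ?_, ?_⟩
  · rw [Category.assoc, Over.comp_left, Category.assoc]
    refine (congrArg (fun t => Spec.map _ ≫ (diagHom B A).left ≫ t) (pullback.lift_fst _ _ _)).trans ?_
    refine (congrArg (Spec.map _ ≫ ·) ((Category.assoc _ _ _).symm.trans ((congrArg (· ≫ p.left)
      (diagHom_fst (B := B) (B' := B') A)).trans (Category.id_comp _)))).trans ?_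
    exact congrArg CommaMorphism.left hp
  · rw [Category.assoc]
    refine (congrArg (Spec.map _ ≫ ·) (Over.w l)).trans ?_
    refine Eq.trans ?_ (Over.w m).symm
    show Spec.map _ ≫ Spec.map _ = Spec.map _
    rw [← Spec.map_comp]
    rfl
  · have h := congrArg CommaMorphism.left (diag_counit AX e he A p)
    rw [← Category.assoc, Equiv.apply_symm_apply, hψ₂] at h
    exact h.trans hb.symm

include he in
theorem counit_surjective [Module.Finite B B'] [Algebra.Smooth B' AX]
    (hsurj : Function.Surjective (PrimeSpectrum.comap (algebraMap B' AX))) :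
    Surjective (e R (𝟙 R)).left := by
  refine ⟨fun x => ?_⟩
  obtain ⟨Ω, _, _, ι, hι⟩ := exists_geomPoint (A := AX) x
  letI : Algebra B' Ω := (ι.comp (algebraMap B' AX)).toAlgebra
  letI : Algebra B Ω := ((algebraMap B' Ω).comp (algebraMap B B')).toAlgebra
  haveI : IsScalarTower B B' Ω := IsScalarTower.of_algebraMap_eq fun _ => rfl
  let bA : AX →ₐ[B'] Ω := { toRingHom := ι, commutes' := fun _ => rfl }
  letI : Algebra Ω (B' ⊗[B] Ω) := Algebra.TensorProduct.rightAlgebra
  haveI : Module.Finite Ω (B' ⊗[B] Ω) :=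
    Module.Finite.equiv ({ (Algebra.TensorProduct.comm B Ω B').toRingEquiv with
      commutes' := fun r => by simp [Algebra.TensorProduct.right_algebraMap_apply] } :
        Ω ⊗[B] B' ≃ₐ[Ω] B' ⊗[B] Ω).toLinearEquiv
  have hμ : Function.Surjective (mulHom B (B' := B') Ω) := fun a => ⟨1 ⊗ₜ a, by rw [mulHom_tmul, map_one, one_mul]⟩
  let κ := Ideal.quotientKerAlgEquivOfSurjective hμ
  haveI hmax : (RingHom.ker (mulHom B (B' := B') Ω)).IsMaximal := RingHom.ker_isMaximal_of_surjective _ hμ
  obtain ⟨ψ, hψ⟩ := exists_section B' AX hsurj Ω (B' ⊗[B] Ω)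
    (some ⟨⟨RingHom.ker (mulHom B (B' := B') Ω), hmax⟩, κ.symm.toAlgHom.comp bA⟩)
  have hψ' : (mulHom B Ω).comp ψ = bA := by
    refine AlgHom.ext fun y => ?_
    have h : Ideal.Quotient.mk _ (ψ y) = κ.symm (bA y) := AlgHom.congr_fun (hψ _ rfl) y
    have h' := congrArg κ h
    rw [AlgEquiv.apply_symm_apply] at h'
    exact h'
  let l := diagHom B Ω ≫ (bc B B').map ((pt e Ω).symm ψ)
  refine ⟨l.left (IsLocalRing.closedPoint Ω), ?_⟩
  have h := congrArg CommaMorphism.left (diag_counit AX e he Ω ((pt e Ω).symm ψ))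
  rw [← Category.assoc, Equiv.apply_symm_apply, hψ'] at h
  refine ((Scheme.Hom.comp_apply l.left (e R (𝟙 R)).left _).symm.trans
    (congrArg (fun t : Spec (CommRingCat.of Ω) ⟶ Spec (CommRingCat.of AX) => t (IsLocalRing.closedPoint Ω)) h)).trans (PrimeSpectrum.ext ?_)
  show Ideal.comap ι (IsLocalRing.maximalIdeal Ω) = _
  rw [IsLocalRing.maximalIdeal_eq_bot]
  exact hι

end Spec

section Map

variable (AX AY : Type u) [CommRing AX] [Algebra B' AX] [CommRing AY] [Algebra B' AY]
  {RX RY : Over (Spec (CommRingCat.of B))}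
  (eX : ∀ Y : Over (Spec (CommRingCat.of B)), (Y ⟶ RX) ≃ ((bc B B').obj Y ⟶ specOver B' AX))
  (heX : ∀ (Y Z : Over (Spec (CommRingCat.of B))) (h : Y ⟶ Z) (g : Z ⟶ RX), eX Y (h ≫ g) = (bc B B').map h ≫ eX Z g)
  (eY : ∀ Y : Over (Spec (CommRingCat.of B)), (Y ⟶ RY) ≃ ((bc B B').obj Y ⟶ specOver B' AY))
  (heY : ∀ (Y Z : Over (Spec (CommRingCat.of B))) (h : Y ⟶ Z) (g : Z ⟶ RY), eY Y (h ≫ g) = (bc B B').map h ≫ eY Z g)
  (f : AY →ₐ[B'] AX)

/-- The restriction of a map. -/
abbrev resMap : RX ⟶ RY := (eY RX).symm (eX RX (𝟙 RX) ≫ specHom B' f)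

include heX heY in
theorem pt_resMap (A : Type u) [CommRing A] [Algebra B A] (p : specOver B A ⟶ RX) :
    pt eY A (p ≫ resMap AX AY eX eY f) = (pt eX A p).comp f := by
  show homEquivAlg B B' AY A (eY _ (p ≫ _)) = _
  rw [heY, Equiv.apply_symm_apply, ← Category.assoc, ← heX, Category.comp_id, homEquivAlg_comp_spec]
  rfl

include heX heY in
theorem resMap_formallySmooth (hf : f.toRingHom.FormallySmooth) :
    MoreMor.IsFormallySmoothHom (resMap AX AY eX eY f).left := by
  intro A _ I hI a b w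
  letI : Algebra B A := (Spec.preimage (b ≫ RY.hom)).hom.toAlgebra
  let pY : specOver B A ⟶ RY := Over.homMk b (Spec.map_preimage _).symm
  let p₀ : specOver B (A ⧸ I) ⟶ RX := Over.homMk a (by
    rw [← Over.w (resMap AX AY eX eY f), ← Category.assoc, ← w, Category.assoc]
    refine (congrArg (Spec.map _ ≫ ·) (Over.w pY)).trans ?_
    show Spec.map _ ≫ Spec.map _ = Spec.map _
    rw [← Spec.map_comp]
    rfl)
  have hq : p₀ ≫ resMap AX AY eX eY f = specHom B (Ideal.Quotient.mkₐ B I) ≫ pY :=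
    Over.OverMorphism.ext w.symm
  have hc : (pt eX _ p₀).comp f = (redHom A I).comp (pt eY A pY) := by
    rw [← pt_resMap AX AY eX heX eY heY, hq, pt_comp eY heY]
  obtain ⟨ψ, hψ₁, hψ₂⟩ := exists_lift_map AX AY f hf A I hI (pt eY A pY) (pt eX _ p₀) hc
  let p := (pt eX A).symm ψ
  have hp : specHom B (Ideal.Quotient.mkₐ B I) ≫ p = p₀ := (pt eX _).injective (by
    rw [pt_comp eX heX, Equiv.apply_symm_apply]
    exact hψ₁)
  have hpY : p ≫ resMap AX AY eX eY f = pY := (pt eY A).injective (by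
    rw [pt_resMap AX AY eX heX eY heY, Equiv.apply_symm_apply, hψ₂])
  exact ⟨p.left, congrArg CommaMorphism.left hp, congrArg CommaMorphism.left hpY⟩

include heX heY in
theorem resMap_surjective [Module.Finite B B'] (hf : f.toRingHom.Smooth)
    (hsurj : Function.Surjective (PrimeSpectrum.comap f.toRingHom)) :
    Surjective (resMap AX AY eX eY f).left := by
  refine ⟨fun y => ?_⟩
  let Ω := AlgebraicClosure (RY.left.residueField y)
  let b : Spec (CommRingCat.of Ω) ⟶ RY.left :=
    Spec.map (CommRingCat.ofHom (algebraMap (RY.left.residueField y) Ω)) ≫ RY.left.fromSpecResidueField y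
  letI : Algebra B Ω := (Spec.preimage (b ≫ RY.hom)).hom.toAlgebra
  let pY : specOver B Ω ⟶ RY := Over.homMk b (Spec.map_preimage _).symm
  letI : Algebra AY AX := f.toRingHom.toAlgebra
  haveI : Algebra.Smooth AY AX := hf
  letI : Algebra AY (B' ⊗[B] Ω) := (pt eY Ω pY).toRingHom.toAlgebra
  letI : Algebra Ω (B' ⊗[B] Ω) := Algebra.TensorProduct.rightAlgebra
  haveI : Module.Finite Ω (B' ⊗[B] Ω) :=
    Module.Finite.equiv ({ (Algebra.TensorProduct.comm B Ω B').toRingEquiv with
      commutes' := fun r => by simp [Algebra.TensorProduct.right_algebraMap_apply] } :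
        Ω ⊗[B] B' ≃ₐ[Ω] B' ⊗[B] Ω).toLinearEquiv
  obtain ⟨ψ, -⟩ := exists_section AY AX hsurj Ω (B' ⊗[B] Ω) none
  let ψ' : AX →ₐ[B'] B' ⊗[B] Ω :=
    { toRingHom := ψ.toRingHom
      commutes' := fun c => by
        show ψ (algebraMap B' AX c) = _
        rw [← f.commutes c]
        exact (ψ.commutes (algebraMap B' AY c)).trans ((pt eY Ω pY).commutes c) }
  let p := (pt eX Ω).symm ψ'
  have hpY : p ≫ resMap AX AY eX eY f = pY := (pt eY Ω).injective (by
    rw [pt_resMap AX AY eX heX eY heY, Equiv.apply_symm_apply]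
    exact AlgHom.ext fun z => ψ.commutes z)
  refine ⟨p.left (IsLocalRing.closedPoint Ω), ?_⟩
  rw [← Scheme.Hom.comp_apply, ← Over.comp_left, hpY]
  exact RY.left.fromSpecResidueField_apply y _

end Map

end WeilPtsLib
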