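import Groth.Agent.WeilPtsLib.Pts

/-!
# Lifting lemmas for Weil restrictions
-/

set_option autoImplicit false
universe u

open TensorProduct

namespace WeilPtsLib

variable {B B' : Type u} [CommRing B] [CommRing B'] [Algebra B B']

/-- The reduction `B' ⊗ A → B' ⊗ A/I`. -/
noncomputable abbrev redHom (A : Type u) [CommRing A] [Algebra B A] (I : Ideal A) :
    B' ⊗[B] A →ₐ[B'] B' ⊗[B] (A ⧸ I) :=
  Algebra.TensorProduct.map (AlgHom.id B' B') (Ideal.Quotient.mkₐ B I)

theorem redHom_surjective (A : Type u) [CommRing A] [Algebra B A] (I : Ideal A) :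
    Function.Surjective (redHom (B := B) (B' := B') A I) := by
  intro z
  induction z using TensorProduct.induction_on with
  | zero => exact ⟨0, map_zero _⟩
  | tmul c a =>
    obtain ⟨a, rfl⟩ := Ideal.Quotient.mk_surjective a
    exact ⟨c ⊗ₜ a, by simp⟩
  | add x y hx hy =>
    obtain ⟨x', rfl⟩ := hx
    obtain ⟨y', rfl⟩ := hy
    exact ⟨x' + y', map_add _ _ _⟩

theorem ker_redHom_pow (A : Type u) [CommRing A] [Algebra B A] (I : Ideal A) (hI : I ^ 2 = ⊥) :
    IsNilpotent (RingHom.ker (redHom (B := B) (B' := B') A I : B' ⊗[B] A →+* B' ⊗[B] (A ⧸ I))) := by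
  refine ⟨2, le_bot_iff.1 ?_⟩
  have h : RingHom.ker (Algebra.TensorProduct.map (AlgHom.id B B') (Ideal.Quotient.mkₐ B I)) =
      I.map (Algebra.TensorProduct.includeRight : A →ₐ[B] B' ⊗[B] A) := by
    rw [Algebra.TensorProduct.lTensor_ker _ Ideal.Quotient.mk_surjective]
    congr 1
    exact Ideal.mk_ker
  have h' : RingHom.ker (redHom (B := B) (B' := B') A I : B' ⊗[B] A →+* B' ⊗[B] (A ⧸ I)) =
      I.map (Algebra.TensorProduct.includeRight : A →ₐ[B] B' ⊗[B] A) := by
    rw [← h]; rfl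
  rw [h', ← Ideal.map_pow, hI, Ideal.map_bot]

/-- Lifting for the counit. -/
theorem exists_lift_counit (AX : Type u) [CommRing AX] [Algebra B' AX] [Algebra.FormallySmooth B' AX]
    (A : Type u) [CommRing A] [Algebra B A] [Algebra B' A] [IsScalarTower B B' A] (I : Ideal A) (hI : I ^ 2 = ⊥)
    (b : AX →ₐ[B'] A) (ψ₀ : AX →ₐ[B'] B' ⊗[B] (A ⧸ I))
    (hc : (mulHom B (A ⧸ I)).comp ψ₀ = (Ideal.Quotient.mkₐ B' I).comp b) :
    ∃ ψ : AX →ₐ[B'] B' ⊗[B] A, (redHom A I).comp ψ = ψ₀ ∧ (mulHom B A).comp ψ = b := by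
  let π : B' ⊗[B] A →ₐ[B'] (B' ⊗[B] (A ⧸ I)) × A := (redHom A I).prod (mulHom B A)
  have hnat : ∀ y, Ideal.Quotient.mk I (mulHom B (B' := B') A y) = mulHom B (A ⧸ I) (redHom A I y) := by
    intro y
    induction y using TensorProduct.induction_on with
    | zero => simp
    | tmul c a => simp [mulHom_tmul]
    | add x z hx hz => simp [map_add, hx, hz]
  have hmem : ∀ x, (ψ₀ x, b x) ∈ π.range := fun x => by
    obtain ⟨y, hy⟩ := redHom_surjective (B := B) (B' := B') A I (ψ₀ x)
    have hδ : b x - mulHom B A y ∈ I := by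
      refine Ideal.Quotient.eq.1 ?_
      rw [hnat, hy]
      exact (AlgHom.congr_fun hc x).symm
    refine ⟨y + 1 ⊗ₜ (b x - mulHom B A y), Prod.ext ?_ ?_⟩
    · show redHom A I (y + 1 ⊗ₜ _) = ψ₀ x
      rw [map_add, hy, Algebra.TensorProduct.map_tmul, Ideal.Quotient.mkₐ_eq_mk,
        Ideal.Quotient.eq_zero_iff_mem.2 hδ, tmul_zero, add_zero]
    · show mulHom B A (y + 1 ⊗ₜ _) = b x
      rw [map_add, mulHom_tmul, map_one, one_mul, add_sub_cancel]
  let g : AX →ₐ[B'] π.range := (ψ₀.prod b).codRestrict π.range hmem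
  letI : CommRing π.range := inferInstance
  let π' : B' ⊗[B] A →ₐ[B'] π.range := π.rangeRestrict
  have hnil : IsNilpotent (RingHom.ker (π' : B' ⊗[B] A →+* π.range)) := by
    obtain ⟨m, hm⟩ := ker_redHom_pow (B := B) (B' := B') A I hI
    refine ⟨m, le_bot_iff.1 (le_trans (Ideal.pow_right_mono (fun z hz => ?_) m) hm.le)⟩
    have h : π z = 0 := congrArg Subtype.val (RingHom.mem_ker.1 hz)
    exact congrArg Prod.fst h
  let ψ := Algebra.FormallySmooth.liftOfSurjective (R := B') (A := AX) (B := B' ⊗[B] A) (C := π.range) g π' π.rangeRestrict_surjective hnil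
  have hψ : ∀ x, π (ψ x) = (ψ₀ x, b x) := fun x =>
    congrArg Subtype.val (Algebra.FormallySmooth.liftOfSurjective_apply (R := B') (A := AX) g π'
      π.rangeRestrict_surjective hnil x)
  exact ⟨ψ, AlgHom.ext fun x => congrArg Prod.fst (hψ x), AlgHom.ext fun x => congrArg Prod.snd (hψ x)⟩

/-- Lifting for the restriction of a smooth map. -/
theorem exists_lift_map (AX AY : Type u) [CommRing AX] [CommRing AY] [Algebra B' AX] [Algebra B' AY]
    (f : AY →ₐ[B'] AX) (hf : f.toRingHom.FormallySmooth)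
    (A : Type u) [CommRing A] [Algebra B A] (I : Ideal A) (hI : I ^ 2 = ⊥)
    (φ : AY →ₐ[B'] B' ⊗[B] A) (ψ₀ : AX →ₐ[B'] B' ⊗[B] (A ⧸ I)) (hc : ψ₀.comp f = (redHom A I).comp φ) :
    ∃ ψ : AX →ₐ[B'] B' ⊗[B] A, (redHom A I).comp ψ = ψ₀ ∧ ψ.comp f = φ := by
  letI : Algebra AY AX := f.toRingHom.toAlgebra
  letI : Algebra AY (B' ⊗[B] A) := φ.toRingHom.toAlgebra
  letI : Algebra AY (B' ⊗[B] (A ⧸ I)) := ((redHom A I).comp φ).toRingHom.toAlgebra
  haveI : Algebra.FormallySmooth AY AX := hf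
  let g : AX →ₐ[AY] B' ⊗[B] (A ⧸ I) := { toRingHom := ψ₀.toRingHom, commutes' := fun y => AlgHom.congr_fun hc y }
  let M : B' ⊗[B] A →ₐ[AY] B' ⊗[B] (A ⧸ I) := { toRingHom := (redHom A I).toRingHom, commutes' := fun _ => rfl }
  let l := Algebra.FormallySmooth.liftOfSurjective g M (redHom_surjective A I) (ker_redHom_pow A I hI)
  refine ⟨{ toRingHom := l.toRingHom, commutes' := fun c => ?_ }, AlgHom.ext fun x => ?_, AlgHom.ext fun y => ?_⟩
  · show l (algebraMap B' AX c) = _
    rw [← f.commutes c]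
    exact (l.commutes (algebraMap B' AY c)).trans (φ.commutes c)
  · exact Algebra.FormallySmooth.liftOfSurjective_apply g M (redHom_surjective A I) (ker_redHom_pow A I hI) x
  · exact l.commutes y

/-- A smooth algebra with surjective spectrum has a point in an algebraically closed field over any point. -/
theorem exists_point (AY AX : Type u) [CommRing AY] [CommRing AX] [Algebra AY AX] [Algebra.FiniteType AY AX]
    (hsurj : Function.Surjective (PrimeSpectrum.comap (algebraMap AY AX)))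
    (K : Type u) [Field K] [IsAlgClosed K] [Algebra AY K] : Nonempty (AX →ₐ[AY] K) := by
  let P : PrimeSpectrum AY := ⟨RingHom.ker (algebraMap AY K), RingHom.ker_isPrime _⟩
  haveI : P.asIdeal.IsPrime := P.isPrime
  haveI hne : Nontrivial (P.asIdeal.ResidueField ⊗[AY] AX) :=
    (PrimeSpectrum.nontrivial_iff_mem_rangeComap P).2 (hsurj P)
  let κK : P.asIdeal.ResidueField →ₐ[AY] K := Ideal.ResidueField.liftₐ P.asIdeal (Algebra.ofId AY K) le_rfl
    (fun x hx => (show algebraMap AY K x ≠ 0 from hx).isUnit)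
  letI : Algebra P.asIdeal.ResidueField K := κK.toRingHom.toAlgebra
  haveI : IsScalarTower AY P.asIdeal.ResidueField K := IsScalarTower.of_algebraMap_eq fun x => (κK.commutes x).symm
  haveI : Nontrivial (K ⊗[AY] AX) := by
    have : Nontrivial (K ⊗[P.asIdeal.ResidueField] (P.asIdeal.ResidueField ⊗[AY] AX)) :=
      Module.FaithfullyFlat.lTensor_nontrivial P.asIdeal.ResidueField K (P.asIdeal.ResidueField ⊗[AY] AX)
    exact (Algebra.TensorProduct.cancelBaseChange AY P.asIdeal.ResidueField K K AX).symm.toEquiv.nontrivial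
  obtain ⟨M, hM⟩ := Ideal.exists_maximal (K ⊗[AY] AX)
  letI : Field ((K ⊗[AY] AX) ⧸ M) := Ideal.Quotient.field M
  haveI : Algebra.FiniteType K ((K ⊗[AY] AX) ⧸ M) :=
    Algebra.FiniteType.of_surjective (Ideal.Quotient.mkₐ K M) Ideal.Quotient.mk_surjective
  haveI : Module.Finite K ((K ⊗[AY] AX) ⧸ M) := finite_of_finite_type_of_isJacobsonRing K _
  let σ : ((K ⊗[AY] AX) ⧸ M) ≃ₐ[K] K := (AlgEquiv.ofBijective (Algebra.ofId K _)
    (IsAlgClosed.algebraMap_bijective_of_isIntegral)).symm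
  exact ⟨((σ.toAlgHom.comp (Ideal.Quotient.mkₐ K M)).restrictScalars AY).comp Algebra.TensorProduct.includeRight⟩

/-- Sections of a smooth surjective map over a finite algebra over an algebraically closed field,
with a prescribed value at one maximal ideal. -/
theorem exists_section (AY AX : Type u) [CommRing AY] [CommRing AX] [Algebra AY AX] [Algebra.Smooth AY AX]
    (hsurj : Function.Surjective (PrimeSpectrum.comap (algebraMap AY AX)))
    (Ω C : Type u) [Field Ω] [IsAlgClosed Ω] [CommRing C] [Algebra Ω C] [Module.Finite Ω C] [Algebra AY C]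
    (m₀ : Option (Σ m : MaximalSpectrum C, AX →ₐ[AY] C ⧸ m.asIdeal)) :
    ∃ ψ : AX →ₐ[AY] C, ∀ p ∈ m₀, (Ideal.Quotient.mkₐ AY p.1.asIdeal).comp ψ = p.2 := by
  classical
  haveI : IsArtinianRing C := IsArtinianRing.of_finite Ω C
  have hpt : ∀ m : MaximalSpectrum C, Nonempty (AX →ₐ[AY] C ⧸ m.asIdeal) := fun m => by
    letI : Field (C ⧸ m.asIdeal) := Ideal.Quotient.field _
    haveI : IsAlgClosed (C ⧸ m.asIdeal) := by
      haveI : Algebra.IsIntegral Ω (C ⧸ m.asIdeal) := Algebra.IsIntegral.of_finite Ω _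
      exact IsAlgClosed.of_ringEquiv Ω _ (RingEquiv.ofBijective (algebraMap Ω (C ⧸ m.asIdeal))
        IsAlgClosed.algebraMap_bijective_of_isIntegral)
    exact exists_point AY AX hsurj (C ⧸ m.asIdeal)
  let x : ∀ m : MaximalSpectrum C, AX →ₐ[AY] C ⧸ m.asIdeal := fun m =>
    match m₀ with
    | none => (hpt m).some
    | some p => if h : m = p.1 then h ▸ p.2 else (hpt m).some
  let π : C →ₐ[AY] ∀ m : MaximalSpectrum C, C ⧸ m.asIdeal := AlgHom.pi fun m => Ideal.Quotient.mkₐ AY m.asIdeal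
  have hπ : ∀ c, π c = IsArtinianRing.quotNilradicalEquivPi C (Ideal.Quotient.mk _ c) := fun c => by
    exact (AlgHom.commutes (IsArtinianRing.quotNilradicalEquivPi C).toAlgHom c).symm
  have hs : Function.Surjective π := fun y => by
    obtain ⟨c, hc⟩ := Ideal.Quotient.mk_surjective ((IsArtinianRing.quotNilradicalEquivPi C).symm y)
    exact ⟨c, by rw [hπ, hc, AlgEquiv.apply_symm_apply]⟩
  have hnil : IsNilpotent (RingHom.ker (π : C →+* ∀ m : MaximalSpectrum C, C ⧸ m.asIdeal)) := by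
    obtain ⟨n, hn⟩ := IsArtinianRing.isNilpotent_nilradical (R := C)
    refine ⟨n, le_bot_iff.1 (le_trans (Ideal.pow_right_mono (fun c hc => ?_) n) hn.le)⟩
    have h : π c = 0 := hc
    rw [hπ, EmbeddingLike.map_eq_zero_iff, Ideal.Quotient.eq_zero_iff_mem] at h
    exact h
  let g : AX →ₐ[AY] ∀ m : MaximalSpectrum C, C ⧸ m.asIdeal := AlgHom.pi x
  refine ⟨Algebra.FormallySmooth.liftOfSurjective g π hs hnil, fun p hp => AlgHom.ext fun a => ?_⟩
  obtain rfl : m₀ = some p := hp
  refine (congrFun (Algebra.FormallySmooth.liftOfSurjective_apply g π hs hnil a) p.1).trans ?_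
  show x p.1 a = p.2 a
  simp [x]

end WeilPtsLib
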