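import Mathlib

/-!
# Affine points of a Weil restriction of an affine scheme, as algebra maps

A Weil restriction along `B → B'` is given by a scheme `R` and natural bijections `e`. For an affine scheme
`X' = Spec AX` the points of `R` with values in a `B`-algebra `A` are the `B'`-algebra maps `AX → B' ⊗[B] A`.
-/

set_option autoImplicit false
universe u

open CategoryTheory CategoryTheory.Limits AlgebraicGeometry TensorProduct

noncomputable section

namespace WeilPtsLib

variable (B B' : Type u) [CommRing B] [CommRing B'] [Algebra B B']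

/-- `Spec A` over `Spec B`. -/
abbrev specOver (A : Type u) [CommRing A] [Algebra B A] : Over (Spec (CommRingCat.of B)) :=
  Over.mk (Spec.map (CommRingCat.ofHom (algebraMap B A)))

/-- The base change functor to `B'`. -/
abbrev bc : Over (Spec (CommRingCat.of B)) ⥤ Over (Spec (CommRingCat.of B')) :=
  Over.pullback (Spec.map (CommRingCat.ofHom (algebraMap B B')))

/-- The base change of `Spec A` is `Spec (B' ⊗ A)`. -/
def bcIso (A : Type u) [CommRing A] [Algebra B A] :
    ((bc B B').obj (specOver B A)).left ≅ Spec (CommRingCat.of (B' ⊗[B] A)) :=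
  pullbackSymmetry _ _ ≪≫ pullbackSpecIso B B' A

theorem bcIso_inv_fst (A : Type u) [CommRing A] [Algebra B A] :
    (bcIso B B' A).inv ≫ pullback.fst (specOver B A).hom (Spec.map (CommRingCat.ofHom (algebraMap B B'))) =
      Spec.map (CommRingCat.ofHom (Algebra.TensorProduct.includeRight : A →ₐ[B] B' ⊗[B] A).toRingHom) := by
  show ((pullbackSpecIso B B' A).inv ≫ (pullbackSymmetry _ _).inv) ≫ pullback.fst _ _ = _
  rw [Category.assoc, pullbackSymmetry_inv_comp_fst]
  exact pullbackSpecIso_inv_snd B B' A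

theorem bcIso_inv_snd (A : Type u) [CommRing A] [Algebra B A] :
    (bcIso B B' A).inv ≫ pullback.snd (specOver B A).hom (Spec.map (CommRingCat.ofHom (algebraMap B B'))) =
      Spec.map (CommRingCat.ofHom (algebraMap B' (B' ⊗[B] A))) := by
  show ((pullbackSpecIso B B' A).inv ≫ (pullbackSymmetry _ _).inv) ≫ pullback.snd _ _ = _
  rw [Category.assoc, pullbackSymmetry_inv_comp_snd]
  exact pullbackSpecIso_inv_fst' B B' A

/-- The morphism of spectra of an algebra map. -/
abbrev specHom {A A₂ : Type u} [CommRing A] [Algebra B A] [CommRing A₂] [Algebra B A₂] (g : A →ₐ[B] A₂) :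
    specOver B A₂ ⟶ specOver B A :=
  Over.homMk (Spec.map (CommRingCat.ofHom g.toRingHom)) (by
    show Spec.map _ ≫ Spec.map _ = Spec.map _
    rw [← Spec.map_comp]
    congr 1
    exact CommRingCat.hom_ext g.comp_algebraMap)

theorem bc_map_specHom {A A₂ : Type u} [CommRing A] [Algebra B A] [CommRing A₂] [Algebra B A₂] (g : A →ₐ[B] A₂) :
    (bcIso B B' A₂).inv ≫ ((bc B B').map (specHom B g)).left =
      Spec.map (CommRingCat.ofHom (Algebra.TensorProduct.map (AlgHom.id B' B') g).toRingHom) ≫ (bcIso B B' A).inv := by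
  refine pullback.hom_ext ?_ ?_
  · rw [Category.assoc, Category.assoc]
    refine (congrArg ((bcIso B B' A₂).inv ≫ ·) (pullback.lift_fst _ _ _)).trans ?_
    rw [← Category.assoc, bcIso_inv_fst, bcIso_inv_fst]
    show Spec.map _ ≫ Spec.map _ = _
    rw [← Spec.map_comp, ← Spec.map_comp]
    congr 1
  · rw [Category.assoc, Category.assoc]
    refine (congrArg ((bcIso B B' A₂).inv ≫ ·) (pullback.lift_snd _ _ _)).trans ?_
    rw [bcIso_inv_snd, bcIso_inv_snd, ← Spec.map_comp]
    congr 1
    exact CommRingCat.hom_ext (Algebra.TensorProduct.map (AlgHom.id B' B') g).comp_algebraMap.symm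

variable (AX : Type u) [CommRing AX] [Algebra B' AX]

/-- Maps from the base change of `Spec A` to `Spec AX` are algebra maps. -/
def homEquivAlg (A : Type u) [CommRing A] [Algebra B A] :
    ((bc B B').obj (specOver B A) ⟶ specOver B' AX) ≃ (AX →ₐ[B'] B' ⊗[B] A) where
  toFun m :=
    { toRingHom := (Spec.preimage ((bcIso B B' A).inv ≫ m.left)).hom
      commutes' := fun c => by
        have h : CommRingCat.ofHom (algebraMap B' AX) ≫ Spec.preimage ((bcIso B B' A).inv ≫ m.left) =
            CommRingCat.ofHom (algebraMap B' (B' ⊗[B] A)) := by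
          refine Spec.map_injective ?_
          rw [Spec.map_comp, Spec.map_preimage, Category.assoc]
          exact (congrArg ((bcIso B B' A).inv ≫ ·) (Over.w m)).trans (bcIso_inv_snd B B' A)
        exact congr($(h).hom c) }
  invFun ψ := Over.homMk ((bcIso B B' A).hom ≫ Spec.map (CommRingCat.ofHom ψ.toRingHom)) (by
    show ((bcIso B B' A).hom ≫ _) ≫ Spec.map _ = pullback.snd _ _
    rw [Category.assoc, ← Spec.map_comp, ← cancel_epi (bcIso B B' A).inv, Iso.inv_hom_id_assoc, bcIso_inv_snd]
    congr 1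
    exact CommRingCat.hom_ext ψ.comp_algebraMap)
  left_inv m := by
    ext1
    show (bcIso B B' A).hom ≫ Spec.map (Spec.preimage ((bcIso B B' A).inv ≫ m.left)) = m.left
    rw [Spec.map_preimage, Iso.hom_inv_id_assoc]
  right_inv ψ := by
    refine AlgHom.ext fun x => ?_
    show (Spec.preimage ((bcIso B B' A).inv ≫ (bcIso B B' A).hom ≫
      Spec.map (CommRingCat.ofHom ψ.toRingHom))).hom x = ψ x
    rw [Iso.inv_hom_id_assoc, Spec.preimage_map]
    rfl

theorem specMap_homEquivAlg {A : Type u} [CommRing A] [Algebra B A]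
    (m : (bc B B').obj (specOver B A) ⟶ specOver B' AX) :
    Spec.map (CommRingCat.ofHom (homEquivAlg B B' AX A m).toRingHom) = (bcIso B B' A).inv ≫ m.left :=
  Spec.map_preimage _

theorem homEquivAlg_comp {A A₂ : Type u} [CommRing A] [Algebra B A] [CommRing A₂] [Algebra B A₂] (g : A →ₐ[B] A₂)
    (m : (bc B B').obj (specOver B A) ⟶ specOver B' AX) :
    homEquivAlg B B' AX A₂ ((bc B B').map (specHom B g) ≫ m) =
      (Algebra.TensorProduct.map (AlgHom.id B' B') g).comp (homEquivAlg B B' AX A m) := by
  refine AlgHom.coe_ringHom_injective (congrArg CommRingCat.Hom.hom (Spec.map_injective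
    (a₁ := CommRingCat.ofHom (homEquivAlg B B' AX A₂ ((bc B B').map (specHom B g) ≫ m)).toRingHom)
    (a₂ := CommRingCat.ofHom (homEquivAlg B B' AX A m).toRingHom ≫
      CommRingCat.ofHom (Algebra.TensorProduct.map (AlgHom.id B' B') g).toRingHom) ?_))
  rw [specMap_homEquivAlg, Spec.map_comp, specMap_homEquivAlg, Over.comp_left, ← Category.assoc, bc_map_specHom,
    Category.assoc]

/-- Composition with a map of the target. -/
theorem homEquivAlg_comp_spec {AY : Type u} [CommRing AY] [Algebra B' AY] (f : AY →ₐ[B'] AX) {A : Type u}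
    [CommRing A] [Algebra B A] (m : (bc B B').obj (specOver B A) ⟶ specOver B' AX) :
    homEquivAlg B B' AY A (m ≫ specHom B' f) = (homEquivAlg B B' AX A m).comp f := by
  refine AlgHom.coe_ringHom_injective (congrArg CommRingCat.Hom.hom (Spec.map_injective
    (a₁ := CommRingCat.ofHom (homEquivAlg B B' AY A (m ≫ specHom B' f)).toRingHom)
    (a₂ := CommRingCat.ofHom f.toRingHom ≫ CommRingCat.ofHom (homEquivAlg B B' AX A m).toRingHom) ?_))
  rw [specMap_homEquivAlg, Spec.map_comp, specMap_homEquivAlg, Over.comp_left, Category.assoc]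
  rfl

variable {B B' AX}
variable {R : Over (Spec (CommRingCat.of B))}
  (e : ∀ Y : Over (Spec (CommRingCat.of B)), (Y ⟶ R) ≃ ((bc B B').obj Y ⟶ specOver B' AX))

/-- The points of the Weil restriction as algebra maps. -/
def pt (A : Type u) [CommRing A] [Algebra B A] : (specOver B A ⟶ R) ≃ (AX →ₐ[B'] B' ⊗[B] A) :=
  (e (specOver B A)).trans (homEquivAlg B B' AX A)

theorem pt_comp
    (he : ∀ (Y Z : Over (Spec (CommRingCat.of B))) (h : Y ⟶ Z) (g : Z ⟶ R), e Y (h ≫ g) = (bc B B').map h ≫ e Z g)
    {A A₂ : Type u} [CommRing A] [Algebra B A] [CommRing A₂] [Algebra B A₂] (g : A →ₐ[B] A₂)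
    (p : specOver B A ⟶ R) :
    pt e A₂ (specHom B g ≫ p) = (Algebra.TensorProduct.map (AlgHom.id B' B') g).comp (pt e A p) := by
  show homEquivAlg B B' AX A₂ (e _ (specHom B g ≫ p)) = _
  rw [he, homEquivAlg_comp]
  rfl

variable (B)

/-- Multiplication. -/
def mulHom (A : Type u) [CommRing A] [Algebra B A] [Algebra B' A] [IsScalarTower B B' A] : B' ⊗[B] A →ₐ[B'] A :=
  Algebra.TensorProduct.lift (Algebra.ofId B' A) (AlgHom.id B A) (fun _ _ => Commute.all _ _)

theorem mulHom_tmul (A : Type u) [CommRing A] [Algebra B A] [Algebra B' A] [IsScalarTower B B' A] (c : B') (a : A) :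
    mulHom B A (c ⊗ₜ a) = algebraMap B' A c * a := by
  simp [mulHom]

/-- The section `Spec A → (Spec A)_{B'}` for a `B'`-algebra `A`. -/
def diagHom (A : Type u) [CommRing A] [Algebra B A] [Algebra B' A] [IsScalarTower B B' A] :
    specOver B' A ⟶ (bc B B').obj (specOver B A) :=
  Over.homMk (Spec.map (CommRingCat.ofHom (mulHom B (B' := B') A).toRingHom) ≫ (bcIso B B' A).inv) (by
    show (_ ≫ (bcIso B B' A).inv) ≫ pullback.snd _ _ = Spec.map _
    rw [Category.assoc, bcIso_inv_snd, ← Spec.map_comp]
    congr 1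
    exact CommRingCat.hom_ext (mulHom B A).comp_algebraMap)

theorem diagHom_comp (A : Type u) [CommRing A] [Algebra B A] [Algebra B' A] [IsScalarTower B B' A]
    (m : (bc B B').obj (specOver B A) ⟶ specOver B' AX) :
    diagHom B A ≫ m = specHom B' ((mulHom B A).comp (homEquivAlg B B' AX A m)) := by
  ext1
  show (Spec.map _ ≫ (bcIso B B' A).inv) ≫ m.left = Spec.map (CommRingCat.ofHom _)
  rw [Category.assoc, ← specMap_homEquivAlg, ← Spec.map_comp]
  rfl

end WeilPtsLib
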